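import Groth.Agent.GrpWords.Basic
import Mathlib.AlgebraicGeometry.AlgClosed.Basic

/-! Rational points under words. -/

set_option autoImplicit false
set_option backward.isDefEq.respectTransparency false
set_option backward.defeqAttrib.useBackward true
universe u

open CategoryTheory Limits AlgebraicGeometry MonoidalCategory CartesianMonoidalCategory MonObj

namespace Groth.Agent.GrpWords

variable {k : Type u} [Field k] [IsAlgClosed k]

theorem point_unique (p q : (𝟙_ (Over (Spec (CommRingCat.of k)))).left) : p = q :=
  @Subsingleton.elim _ (inferInstanceAs (Subsingleton (PrimeSpectrum k))) p q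

theorem point_ext {G : Over (Spec (CommRingCat.of k))} [LocallyOfFiniteType G.hom]
    {a b : 𝟙_ (Over (Spec (CommRingCat.of k))) ⟶ G} (p q : (𝟙_ (Over (Spec (CommRingCat.of k)))).left)
    (h : a.left.base p = b.left.base q) : a = b := by
  rw [point_unique p (IsLocalRing.closedPoint k), point_unique q (IsLocalRing.closedPoint k)] at h
  exact Over.OverMorphism.ext (ext_of_apply_closedPoint_eq G.hom (Over.w a) (Over.w b) h)

/-- A rational point in the image lifts to a rational point. -/
theorem exists_point {X G : Over (Spec (CommRingCat.of k))} [LocallyOfFiniteType X.hom]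
    [LocallyOfFiniteType G.hom] (f : X ⟶ G) (g : 𝟙_ (Over (Spec (CommRingCat.of k))) ⟶ G)
    (p₀ : (𝟙_ (Over (Spec (CommRingCat.of k)))).left)
    (h : g.left.base p₀ ∈ Set.range f.left.base) :
    ∃ x : 𝟙_ (Over (Spec (CommRingCat.of k))) ⟶ X, x ≫ f = g := by
  have : JacobsonSpace X.left := LocallyOfFiniteType.jacobsonSpace X.hom
  rw [point_unique p₀ (IsLocalRing.closedPoint k)] at h
  have hc : IsClosed {g.left.base (IsLocalRing.closedPoint k)} :=
    ((pointEquivClosedPoint G.hom) ⟨g.left, Over.w g⟩).2
  have hne : (f.left.base ⁻¹' {g.left.base (IsLocalRing.closedPoint k)}).Nonempty := by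
    obtain ⟨z, hz⟩ := h; exact ⟨z, hz⟩
  obtain ⟨y, hy, hyc⟩ := nonempty_inter_closedPoints hne
    (hc.preimage f.left.base.hom.continuous).isLocallyClosed
  refine ⟨Over.homMk _ ((pointEquivClosedPoint X.hom).symm ⟨y, hyc⟩).2, ?_⟩
  refine point_ext (IsLocalRing.closedPoint k) (IsLocalRing.closedPoint k) ?_
  change f.left.base (pointOfClosedPoint X.hom y hyc (IsLocalRing.closedPoint k)) = _
  rw [pointOfClosedPoint_apply]
  exact hy

end Groth.Agent.GrpWords
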